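import Mathlib.AlgebraicGeometry.FunctionField
import Mathlib.AlgebraicGeometry.Morphisms.UniversallyOpen
import Mathlib.AlgebraicGeometry.Morphisms.Flat
import Mathlib.RingTheory.Ideal.MinimalPrime.Basic

/-!
# Sections of a reduced scheme are determined at its maximal points
-/

open CategoryTheory AlgebraicGeometry TopologicalSpace

namespace Groth.Agent.BddFinSmooth

universe u

variable {W X : Scheme.{u}}

/-- A point with no proper generalization. -/
def IsMaxPt (w : W) : Prop := ∀ y : W, y ⤳ w → y = w

theorem exists_isMaxPt_specializes (x : W) : ∃ w : W, IsMaxPt w ∧ w ⤳ x := by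
  obtain ⟨C, hC, hxC⟩ := exists_preirreducible {x} isPreirreducible_singleton
  refine ⟨IsIrreducible.genericPoint (S := C) ⟨⟨x, hxC.1 rfl⟩, hC⟩, ?_, ?_⟩
  all_goals
    have hg := IsIrreducible.isGenericPoint_genericPoint_closure (S := C) ⟨⟨x, hxC.1 rfl⟩, hC⟩
  · intro y hy
    have h1 : C ⊆ closure {y} := by
      refine subset_closure.trans ?_
      rw [← hg.def]
      exact closure_minimal (Set.singleton_subset_iff.mpr (specializes_iff_mem_closure.mp hy)) isClosed_closure
    have h2 : closure {y} = C := hxC.2 _ isPreirreducible_singleton.closure h1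
    refine IsGenericPoint.eq (S := closure C) ?_ hg
    show closure {y} = closure C
    rw [← h2, closure_closure]
  · exact hg.specializes (subset_closure (hxC.1 rfl))

/-- A flat morphism sends maximal points to the generic point of an irreducible target. -/
theorem map_eq_genericPoint [IrreducibleSpace X] (f : W ⟶ X) [Flat f] {w : W} (hw : IsMaxPt w) :
    f w = genericPoint X := by
  obtain ⟨y, hy, hfy⟩ := (Flat.generalizingMap f) ((genericPoint_specializes (f w)))
  rw [← hw y hy]
  exact hfy

/-- Sections of a reduced scheme agreeing at all maximal points agree. -/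
theorem eq_of_germ_eq_maxPt [IsReduced W] {O : W.Opens} (s t : Γ(W, O))
    (h : ∀ (w : W) (hwO : w ∈ O), IsMaxPt w → W.presheaf.germ O w hwO s = W.presheaf.germ O w hwO t) :
    s = t := by
  rw [← sub_eq_zero]
  set d := s - t with hd
  have hd0 : ∀ (w : W) (hwO : w ∈ O), IsMaxPt w → W.presheaf.germ O w hwO d = 0 := fun w hwO hw => by
    rw [hd, map_sub, h w hwO hw, sub_self]
  apply TopCat.Presheaf.section_ext W.sheaf O
  intro x hx
  show W.presheaf.germ O x hx d = W.presheaf.germ O x hx 0
  obtain ⟨V, hV, hxV, hVO'⟩ := exists_isAffineOpen_mem_and_subset hx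
  have hVO : V ≤ O := hVO'
  have hVd : W.presheaf.map (homOfLE hVO).op d = 0 := by
    apply IsNilpotent.eq_zero
    rw [nilpotent_iff_mem_prime]
    intro q hq
    obtain ⟨m, hm, hmq⟩ := Ideal.exists_minimalPrimes_le (I := (⊥ : Ideal Γ(W, V))) (bot_le (a := q))
    refine hmq ?_
    haveI := hm.1.1
    let P : PrimeSpectrum Γ(W, V) := ⟨m, hm.1.1⟩
    let w := hV.fromSpec P
    have hwV : w ∈ V := by
      have : hV.fromSpec P ∈ Set.range hV.fromSpec := ⟨P, rfl⟩
      rwa [hV.range_fromSpec] at this
    have hw : IsMaxPt w := by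
      intro y hy
      have hyV : y ∈ V := hy.mem_open V.isOpen hwV
      obtain ⟨Q, rfl⟩ : y ∈ Set.range hV.fromSpec := by rw [hV.range_fromSpec]; exact hyV
      let Q' : PrimeSpectrum Γ(W, V) := Q
      have hle : Q'.asIdeal ≤ P.asIdeal := (PrimeSpectrum.le_iff_specializes Q' P).mpr
        (hV.fromSpec.isOpenEmbedding.isInducing.specializes_iff.mp hy)
      have hQP : Q' = P := PrimeSpectrum.ext (le_antisymm hle (hm.2 ⟨Q'.isPrime, bot_le⟩ hle))
      exact congrArg hV.fromSpec hQP
    letI := (TopCat.Presheaf.algebra_section_stalk W.presheaf (⟨w, hwV⟩ : (V : W.Opens)))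
    haveI hloc : IsLocalization.AtPrime (W.presheaf.stalk w) P.asIdeal :=
      hV.isLocalization_stalk' P hwV
    have h0 : algebraMap Γ(W, V) (W.presheaf.stalk w) (W.presheaf.map (homOfLE hVO).op d) = 0 := by
      show W.presheaf.germ V w hwV (W.presheaf.map (homOfLE hVO).op d) = 0
      rw [TopCat.Presheaf.germ_res_apply]
      exact hd0 w (hVO hwV) hw
    obtain ⟨⟨c, hc⟩, hcd⟩ := (IsLocalization.map_eq_zero_iff P.asIdeal.primeCompl _ _).mp h0
    exact (hm.1.1.mem_or_mem (hcd ▸ Ideal.zero_mem _)).resolve_left hc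
  rw [← TopCat.Presheaf.germ_res_apply W.presheaf (homOfLE hVO) x hxV d, hVd, map_zero, map_zero]

end Groth.Agent.BddFinSmooth
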