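import Groth.Agent.BddFinSmooth.Generic
import Groth.Agent.SrcDescent.LocalAtSource
import Groth.Agent.GITQuot.BaseChange

/-!
# Smoothness of the generic fibre of a geometric quotient by a smooth group
-/

universe u

open CategoryTheory CategoryTheory.Limits MonoidalCategory CartesianMonoidalCategory MonObj AlgebraicGeometry

namespace Groth.Agent.BddFinSmooth

/-- A preimmersion is an isomorphism on local rings where the local ring of the target is a field. -/
theorem isIso_stalkMap_of_isField {A B : Scheme.{u}} (f : A ⟶ B) [IsPreimmersion f] (x : A)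
    (h : IsField (B.presheaf.stalk (f x))) : IsIso (f.stalkMap x) := by
  letI := h.toField
  exact (ConcreteCategory.isIso_iff_bijective _).mpr ⟨(f.stalkMap x).hom.injective, f.stalkMap_surjective x⟩

theorem formallySmooth_stalkMap_congr {A B : Scheme.{u}} {f f' : A ⟶ B} (e : f = f') (x : A) :
    (f.stalkMap x).hom.FormallySmooth ↔ (f'.stalkMap x).hom.FormallySmooth := by
  subst e; rfl

theorem isField_stalk_genericPoint {Y : Scheme.{u}} [IsIntegral Y] {y : Y} (hy : y = genericPoint Y) :
    IsField (Y.presheaf.stalk y) := by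
  subst hy; exact Field.toIsField Y.functionField

theorem smooth_fibre {K : Type u} [Field K] {G X Y : Over (Spec (CommRingCat.of K))} [GrpObj G] [Smooth G.hom]
    [IsIntegral X.left] [LocallyOfFiniteType X.hom] {a : AlgGrp.Action G X} {π : X ⟶ Y}
    (hπ : GIT.IsGeomQuot a π) [IrreducibleSpace Y.left] [AlgebraicGeometry.IsReduced (G ⊗ X).left] :
    Smooth (π.left.fiberToSpecResidueField (genericPoint Y.left)) := by
  haveI := isReduced_quot hπ
  haveI : IsIntegral Y.left := isIntegral_of_irreducibleSpace_of_isReduced _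
  have hgen := map_genericPoint hπ
  set yg := genericPoint Y.left with hyg
  set f := π.left.fiberToSpecResidueField yg with hf
  set g := Y.left.fromSpecResidueField yg with hg
  set fi := π.left.fiberι yg with hι
  haveI : LocallyOfFiniteType π.left := by
    haveI : LocallyOfFiniteType (π.left ≫ Y.hom) := by rw [Over.w π]; infer_instance
    exact locallyOfFiniteType_of_comp π.left Y.hom
  haveI : LocallyOfFiniteType f := inferInstanceAs (LocallyOfFiniteType (pullback.snd π.left g))
  haveI : LocallyOfFinitePresentation f := inferInstance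
  -- the generic point of the fibre
  obtain ⟨ξF, hξF⟩ : ∃ z, fi z = genericPoint X.left := by
    have : genericPoint X.left ∈ Set.range fi := by rw [hι, Scheme.Hom.range_fiberι]; exact hgen
    exact this
  have hmem : ξF ∈ f.smoothLocus := by
    rw [Scheme.Hom.mem_smoothLocus]
    have h0 := formallySmooth_stalkMap_genericPoint hπ
    rw [← hξF] at h0
    haveI : IsIso (fi.stalkMap ξF) := isIso_stalkMap_of_isField fi ξF (isField_stalk_genericPoint hξF)
    have h1 : ((fi ≫ π.left).stalkMap ξF).hom.FormallySmooth := by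
      rw [Scheme.Hom.stalkMap_comp]
      exact (RingHom.FormallySmooth.respectsIso.cancel_right_isIso _ _).mpr h0
    rw [formallySmooth_stalkMap_congr (π.left.fiber_fac yg), Scheme.Hom.stalkMap_comp] at h1
    haveI : IsIso (g.stalkMap (f ξF)) :=
      isIso_stalkMap_of_isField g _ (isField_stalk_genericPoint (Y.left.fromSpecResidueField_apply yg _))
    exact (RingHom.FormallySmooth.respectsIso.cancel_left_isIso _ _).mp h1
  -- the action on the fibre
  let T : Over (Spec (CommRingCat.of K)) := Over.mk (g ≫ Y.hom)
  let X' : Over (Spec (CommRingCat.of K)) := Over.mk (fi ≫ X.hom)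
  let pr : X' ⟶ X := Over.homMk fi rfl
  let gT : T ⟶ Y := Over.homMk g rfl
  let φ' : X' ⟶ T := Over.homMk f (by
    show f ≫ g ≫ Y.hom = fi ≫ X.hom
    rw [← Category.assoc, ← π.left.fiber_fac yg, Category.assoc, Over.w π])
  have hpb : IsPullback pr φ' π gT :=
    IsPullback.of_map (Over.forget _) (Over.OverMorphism.ext (π.left.fiber_fac yg)) (IsPullback.of_hasPullback π.left g)
  obtain ⟨a', ha', hinv⟩ := GITQuot.exists_action (a := a) hπ.inv hpb
  have horb := GITQuot.orbit_baseChange hπ.inv hπ.orbit hpb a' ha' hinv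
  haveI := smooth_snd (G := G) (X := X')
  haveI := smooth_act a'
  let U : X'.left.Opens := f.smoothLocus
  let W := a'.act.left ⁻¹ᵁ U
  haveI : Surjective (W.ι ≫ (snd G X').left) := ⟨fun x => by
    obtain ⟨z, hz₁, hz₂⟩ := Scheme.Pullback.exists_preimage_pullback (f := φ'.left) (g := φ'.left) (ξF : X'.left) x
      (Subsingleton.elim (α := PrimeSpectrum (Y.left.residueField yg)) _ _)
    obtain ⟨w, hw⟩ := horb z
    have h1 : a'.act.left w = ξF := by
      rw [← hz₁, ← hw, ← Scheme.Hom.comp_apply, GIT.PsiY, pullback.lift_fst]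
    have h2 : (snd G X').left w = x := by
      rw [← hz₂, ← hw, ← Scheme.Hom.comp_apply, GIT.PsiY, pullback.lift_snd]
    exact ⟨⟨w, show a'.act.left w ∈ U from h1 ▸ hmem⟩, h2⟩⟩
  haveI hUsm : Smooth (U.ι ≫ f) := by
    rw [← Scheme.Hom.smoothLocus_eq_top_iff, ← Scheme.Hom.preimage_smoothLocus_eq]
    exact U.ι_preimage_self
  refine SrcDescent.smooth_of_smooth_comp (W.ι ≫ (snd G X').left) f ?_
  have e : (W.ι ≫ (snd G X').left) ≫ f = (a'.act.left ∣_ U) ≫ U.ι ≫ f := by
    rw [morphismRestrict_ι_assoc, Category.assoc]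
    exact congrArg (W.ι ≫ ·) hinv.left.symm
  rw [e]
  infer_instance

end Groth.Agent.BddFinSmooth
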