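import Groth.Agent.BddFinSmooth.Invariant
import Groth.Agent.GrpSchLib.SmoothReduced
import Groth.Agent.GeomField.Algebra

/-!
# Local rings over the generic point of a smooth morphism are geometrically reduced
-/

universe u

open CategoryTheory AlgebraicGeometry TensorProduct

namespace Groth.Agent.BddFinSmooth

attribute [local instance] Algebra.TensorProduct.rightAlgebra in
theorem gr_localization_of_standardSmooth {R A K M : Type u} [CommRing R] [IsDomain R] [CommRing A] [Algebra R A]
    [Algebra.IsStandardSmooth R A] [Field K] [Algebra R K] [IsFractionRing R K] [CommRing M] [Algebra A M]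
    [Algebra K M] [Algebra R M] [IsScalarTower R A M] [IsScalarTower R K M] (q : Ideal A) [q.IsPrime]
    [IsLocalization.AtPrime M q] (hq : ∀ r : R, algebraMap R A r ∈ q → r = 0) :
    Algebra.IsGeometricallyReduced K M := by
  let φ : K ⊗[R] A →ₐ[K] M :=
    Algebra.TensorProduct.lift (Algebra.ofId K M) (IsScalarTower.toAlgHom R A M) (fun _ _ => Commute.all _ _)
  letI : Algebra (K ⊗[R] A) M := φ.toRingHom.toAlgebra
  haveI : IsScalarTower K (K ⊗[R] A) M := IsScalarTower.of_algebraMap_eq fun x => (φ.commutes x).symm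
  haveI : IsScalarTower A (K ⊗[R] A) M := IsScalarTower.of_algebraMap_eq fun s => by
    show algebraMap A M s = φ ((1 : K) ⊗ₜ[R] s)
    simp [φ]
  haveI : IsLocalization (Algebra.algebraMapSubmonoid A (nonZeroDivisors R)) (K ⊗[R] A) :=
    IsLocalization.tensorRight (S := A) (A := K) (nonZeroDivisors R)
  haveI : IsLocalization (q.primeCompl.map (algebraMap A (K ⊗[R] A))) M :=
    IsLocalization.isLocalization_of_submonoid_le (K ⊗[R] A) M (Algebra.algebraMapSubmonoid A (nonZeroDivisors R))
      q.primeCompl (by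
      rintro _ ⟨r, hr, rfl⟩
      exact fun h => nonZeroDivisors.ne_zero hr (hq r h))
  haveI : Algebra.IsGeometricallyReduced K (K ⊗[R] A) := by
    rw [Algebra.isGeometricallyReduced_field_iff]
    exact GrpSchLib.isReduced_of_isStandardSmooth (AlgebraicClosure K) _
  exact GeomField.gr_localization (k := K) (K ⊗[R] A) M (q.primeCompl.map (algebraMap A (K ⊗[R] A)))

theorem gr_toMax {W X : Scheme.{u}} [IsIntegral X] (p : W ⟶ X) [Smooth p] (w : W) (h : p w = genericPoint X) :
    @Algebra.IsGeometricallyReduced X.functionField (W.presheaf.stalk w) _ _ (toMax p w h).hom.toAlgebra := by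
  choose U hU V hV hxV e hs using Smooth.exists_isStandardSmooth p
  have hξU : genericPoint X ∈ U w := h ▸ e w (hxV w)
  haveI : Nonempty (U w : X.Opens) := ⟨⟨_, hξU⟩⟩
  haveI := functionField_isFractionRing_of_isAffineOpen X (U w) (hU w)
  letI := (p.appLE (U w) (V w) (e w)).hom.toAlgebra
  haveI : Algebra.IsStandardSmooth Γ(X, U w) Γ(W, V w) := hs w
  letI algA : Algebra Γ(W, V w) (W.presheaf.stalk w) :=
    TopCat.Presheaf.algebra_section_stalk W.presheaf (⟨w, hxV w⟩ : (V w : W.Opens))
  letI := (toMax p w h).hom.toAlgebra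
  letI : Algebra Γ(X, U w) (W.presheaf.stalk w) :=
    ((algebraMap Γ(W, V w) (W.presheaf.stalk w)).comp (algebraMap Γ(X, U w) Γ(W, V w))).toAlgebra
  haveI : IsScalarTower Γ(X, U w) Γ(W, V w) (W.presheaf.stalk w) := IsScalarTower.of_algebraMap_eq fun _ => rfl
  haveI : IsScalarTower Γ(X, U w) X.functionField (W.presheaf.stalk w) := IsScalarTower.of_algebraMap_eq fun s => by
    show W.presheaf.germ (V w) w (hxV w) (p.appLE (U w) (V w) (e w) s) =
      toMax p w h (X.presheaf.germ (U w) _ hξU s)
    rw [toMax_germ_le]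
  let q := ((hV w).primeIdealOf ⟨w, hxV w⟩).asIdeal
  haveI : IsLocalization.AtPrime (W.presheaf.stalk w) q := (hV w).isLocalization_stalk ⟨w, hxV w⟩
  refine gr_localization_of_standardSmooth (R := Γ(X, U w)) (A := Γ(W, V w)) q fun r hr => ?_
  by_contra hr0
  have hnu := IsLocalization.AtPrime.isUnit_to_map_iff (W.presheaf.stalk w) q (algebraMap Γ(X, U w) Γ(W, V w) r)
  have hu : IsUnit (algebraMap Γ(W, V w) (W.presheaf.stalk w) (algebraMap Γ(X, U w) Γ(W, V w) r)) := by
    rw [← IsScalarTower.algebraMap_apply Γ(X, U w) Γ(W, V w) (W.presheaf.stalk w),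
      IsScalarTower.algebraMap_apply Γ(X, U w) X.functionField (W.presheaf.stalk w)]
    exact (Ne.isUnit ((map_ne_zero_iff _ (IsFractionRing.injective Γ(X, U w) X.functionField)).mpr hr0)).map _
  exact hnu.mp hu hr

end Groth.Agent.BddFinSmooth
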