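import Groth.Agent.BddFinSmooth.MacLane
import Groth.Agent.BddFinSmooth.GenericGR
import Groth.Agent.EGA41Lib.FieldFS
import Mathlib.RingTheory.RingHom.Smooth

/-!
# A geometric quotient by a smooth group is formally smooth at the generic point
-/

universe u

open CategoryTheory CategoryTheory.Limits MonoidalCategory CartesianMonoidalCategory MonObj AlgebraicGeometry

namespace Groth.Agent.BddFinSmooth

theorem toMax_congr {W Z : Scheme.{u}} [IrreducibleSpace Z] {f f' : W ⟶ Z} (e : f = f') (w : W)
    (h : f w = genericPoint Z) : toMax f w h = toMax f' w (e ▸ h) := by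
  subst e; rfl

theorem toMax_comp {W V Z : Scheme.{u}} [IrreducibleSpace V] [IrreducibleSpace Z] (f : W ⟶ V) (g : V ⟶ Z) (w : W)
    (h : f w = genericPoint V) (hg : g (genericPoint V) = genericPoint Z) (c : Z.functionField) :
    toMax f w h (toMax g (genericPoint V) hg c) =
      toMax (f ≫ g) w (by rw [Scheme.Hom.comp_apply, h, hg]) c := by
  obtain ⟨U, hU, s, rfl⟩ := Z.presheaf.exists_germ_eq c
  rw [toMax_germ, toMax_germ f, toMax_germ]
  rfl

variable {S : Scheme.{u}} {G X Y : Over S} [GrpObj G] {a : AlgGrp.Action G X} {π : X ⟶ Y}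

theorem isReduced_quot (hπ : GIT.IsGeomQuot a π) [AlgebraicGeometry.IsReduced X.left] :
    AlgebraicGeometry.IsReduced Y.left :=
  ⟨fun U => isReduced_of_injective (π.left.app U).hom (hπ.sections U).1⟩

theorem map_genericPoint (hπ : GIT.IsGeomQuot a π) [IrreducibleSpace X.left] [IrreducibleSpace Y.left] :
    π.left (genericPoint X.left) = genericPoint Y.left := by
  obtain ⟨x, hx⟩ := hπ.surj (genericPoint Y.left)
  have h1 : π.left (genericPoint X.left) ⤳ genericPoint Y.left := by
    have := (genericPoint_specializes x).map π.left.continuous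
    exact hx ▸ this
  exact (Specializes.antisymm h1 (genericPoint_specializes _)).eq

theorem formallySmooth_stalkMap_genericPoint (hπ : GIT.IsGeomQuot a π) [Smooth G.hom] [IsIntegral X.left]
    [IrreducibleSpace Y.left] [AlgebraicGeometry.IsReduced (G ⊗ X).left] :
    (π.left.stalkMap (genericPoint X.left)).hom.FormallySmooth := by
  have hgen := map_genericPoint hπ
  haveI := isReduced_quot hπ
  haveI : IsIntegral Y.left := isIntegral_of_irreducibleSpace_of_isReduced _
  haveI := smooth_snd (G := G) (X := X)
  haveI := smooth_act a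
  letI : Algebra Y.left.functionField X.left.functionField := (toMax π.left _ hgen).hom.toAlgebra
  let J := {w : (G ⊗ X).left // IsMaxPt w}
  let α : ∀ j : J, X.left.functionField →+* (G ⊗ X).left.presheaf.stalk j.1 := fun j =>
    (toMax a.act.left j.1 (map_eq_genericPoint _ j.2)).hom
  let β : ∀ j : J, X.left.functionField →+* (G ⊗ X).left.presheaf.stalk j.1 := fun j =>
    (toMax (snd G X).left j.1 (map_eq_genericPoint _ j.2)).hom
  haveI : Algebra.IsGeometricallyReduced Y.left.functionField X.left.functionField := by
    refine isGeometricallyReduced_of_equalizer (fun j : J => ((G ⊗ X).left.presheaf.stalk j.1 : Type u)) α β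
      (fun j c => ?_) (fun j => gr_toMax _ _ _) (fun h hh => ?_)
    · show toMax a.act.left j.1 _ (toMax π.left _ hgen c) = toMax (snd G X).left j.1 _ (toMax π.left _ hgen c)
      rw [toMax_comp, toMax_comp, toMax_congr hπ.inv.left]
    · exact exists_of_isInvFun hπ (fun w hw _ _ => hh ⟨w, hw⟩) hgen
  have hFS : (toMax π.left _ hgen).hom.FormallySmooth :=
    EGA41Lib.FieldFS.formallySmooth_of_isGeometricallyReduced Y.left.functionField X.left.functionField
  haveI : IsIso (Y.left.presheaf.stalkSpecializes
      (show π.left (genericPoint X.left) ⤳ genericPoint Y.left from hgen ▸ specializes_rfl)) :=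
    inferInstanceAs (IsIso (Y.left.presheaf.stalkCongr (Inseparable.of_eq hgen.symm)).hom)
  exact (RingHom.FormallySmooth.respectsIso.cancel_left_isIso _ _).mp hFS

end Groth.Agent.BddFinSmooth
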