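import Groth.Agent.BddFinSmooth.MaxPoints
import Groth.Agent.GITQuot.BaseChange
import Mathlib.AlgebraicGeometry.Morphisms.Smooth
import Mathlib.RingTheory.Flat.FaithfullyFlat.Algebra

/-!
# Invariant rational functions of a geometric quotient come from the quotient
-/

universe u

open CategoryTheory CategoryTheory.Limits MonoidalCategory CartesianMonoidalCategory MonObj AlgebraicGeometry
open TopologicalSpace

namespace Groth.Agent.BddFinSmooth

variable {S : Scheme.{u}} {G X Y : Over S} [GrpObj G] (a : AlgGrp.Action G X)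

theorem act_left_eq : ∃ Φ : (G ⊗ X).left ⟶ (G ⊗ X).left, IsIso Φ ∧ a.act.left = Φ ≫ (snd G X).left := by
  let Φ : G ⊗ X ⟶ G ⊗ X := lift (fst G X) a.act
  let Ψ : G ⊗ X ⟶ G ⊗ X := lift (fst G X) (lift ((fst G X)⁻¹) (snd G X) ≫ a.act)
  have hmul : ∀ (T : Over S) (p q : T ⟶ G) (x : T ⟶ X),
      lift p (lift q x ≫ a.act) ≫ a.act = lift (p * q) x ≫ a.act := by
    intro T p q x
    have h := congrArg (lift (lift p q) x ≫ ·) a.mul_act
    simp only [← Category.assoc, lift_whiskerRight, lift_lift_associator_hom, lift_whiskerLeft] at h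
    exact h.symm
  have hone : ∀ (T : Over S) (x : T ⟶ X), lift (1 : T ⟶ G) x ≫ a.act = x := by
    intro T x
    have h := congrArg (lift (toUnit T) x ≫ ·) a.one_act
    simp only [← Category.assoc, lift_whiskerRight] at h
    exact h.trans (lift_snd _ _)
  have h1 : Φ ≫ Ψ = 𝟙 _ := by
    apply CartesianMonoidalCategory.hom_ext
    · simp [Φ, Ψ]
    · simp only [Φ, Ψ, Category.assoc, lift_snd, Category.id_comp]
      rw [← Category.assoc, comp_lift, GrpObj.comp_inv, lift_fst, lift_snd]
      have e := hmul _ (fst G X)⁻¹ (fst G X) (snd G X)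
      rw [lift_fst_snd, Category.id_comp, inv_mul_cancel, hone] at e
      exact e
  have h2 : Ψ ≫ Φ = 𝟙 _ := by
    apply CartesianMonoidalCategory.hom_ext
    · simp [Φ, Ψ]
    · simp only [Φ, Category.assoc, lift_snd, Category.id_comp]
      simp only [Ψ]
      rw [hmul, mul_inv_cancel, hone]
  haveI : IsIso Φ := ⟨Ψ, h1, h2⟩
  exact ⟨Φ.left, inferInstanceAs (IsIso ((Over.forget S).map Φ)), by rw [← Over.comp_left, lift_snd]⟩

theorem smooth_snd [Smooth G.hom] : Smooth (snd G X).left :=
  inferInstanceAs (Smooth (pullback.snd G.hom X.hom))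

theorem smooth_act [Smooth G.hom] : Smooth a.act.left := by
  obtain ⟨Φ, _, h⟩ := act_left_eq a
  haveI := smooth_snd (G := G) (X := X)
  rw [h]; infer_instance

/-- A rational function seen in the local ring at a point over the generic point. -/
noncomputable def toMax {W Z : Scheme.{u}} [IrreducibleSpace Z] (f : W ⟶ Z) (w : W)
    (h : f w = genericPoint Z) : Z.functionField ⟶ W.presheaf.stalk w :=
  Z.presheaf.stalkSpecializes (show f w ⤳ genericPoint Z from h ▸ specializes_rfl) ≫ f.stalkMap w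

theorem toMax_germ {W Z : Scheme.{u}} [IrreducibleSpace Z] (f : W ⟶ Z) (w : W)
    (h : f w = genericPoint Z) (U : Z.Opens) (hU : genericPoint Z ∈ U) (s : Γ(Z, U)) :
    toMax f w h (Z.presheaf.germ U _ hU s) =
      W.presheaf.germ (f ⁻¹ᵁ U) w (show f w ∈ U from h ▸ hU) (f.app U s) := by
  rw [toMax, CommRingCat.comp_apply, TopCat.Presheaf.germ_stalkSpecializes_apply]
  exact Scheme.Hom.germ_stalkMap_apply f U w _ s

theorem toMax_germ_le {W Z : Scheme.{u}} [IrreducibleSpace Z] (f : W ⟶ Z) (w : W)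
    (h : f w = genericPoint Z) (U : Z.Opens) (hU : genericPoint Z ∈ U) (V : W.Opens) (e : V ≤ f ⁻¹ᵁ U)
    (hw : w ∈ V) (s : Γ(Z, U)) :
    toMax f w h (Z.presheaf.germ U _ hU s) = W.presheaf.germ V w hw (f.appLE U V e s) := by
  rw [toMax_germ, Scheme.Hom.appLE, CommRingCat.comp_apply, TopCat.Presheaf.germ_res_apply]

/-- A rational function is invariant if its two pullbacks agree at every maximal point of `G ⊗ X`. -/
def IsInvFun [IrreducibleSpace X.left] (h : X.left.functionField) : Prop :=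
  ∀ (w : (G ⊗ X).left), IsMaxPt w → ∀ (hα : a.act.left w = genericPoint X.left)
    (hβ : (snd G X).left w = genericPoint X.left),
    toMax a.act.left w hα h = toMax (snd G X).left w hβ h

variable {a}

theorem sections_eq [Smooth G.hom] [IsIntegral X.left] [AlgebraicGeometry.IsReduced (G ⊗ X).left]
    {O : (G ⊗ X).left.Opens} (s t : Γ((G ⊗ X).left, O))
    (h : ∀ (w : (G ⊗ X).left) (hw : w ∈ O), a.act.left w = genericPoint X.left →
      (snd G X).left w = genericPoint X.left → IsMaxPt w →
      (G ⊗ X).left.presheaf.germ O w hw s = (G ⊗ X).left.presheaf.germ O w hw t) : s = t := by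
  haveI := smooth_snd (G := G) (X := X)
  haveI := smooth_act a
  exact eq_of_germ_eq_maxPt s t fun w hw hm =>
    h w hw (map_eq_genericPoint _ hm) (map_eq_genericPoint _ hm) hm

variable {π : X ⟶ Y}

theorem exists_mem_stalk [Smooth G.hom] [IsIntegral X.left] [AlgebraicGeometry.IsReduced (G ⊗ X).left]
    {h : X.left.functionField} (hh : IsInvFun a h) {D : X.left.Opens} (hD : genericPoint X.left ∈ D)
    (hs : Γ(X.left, D)) (hhs : X.left.presheaf.germ D _ hD hs = h)
    (w : (G ⊗ X).left) (hw : a.act.left w ∈ D) :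
    ∃ (U : X.left.Opens) (hU : genericPoint X.left ∈ U) (s : Γ(X.left, U)),
      (snd G X).left w ∈ U ∧ X.left.presheaf.germ U _ hU s = h := by
  haveI := smooth_snd (G := G) (X := X)
  haveI := smooth_act a
  set p := (snd G X).left with hp
  set x := p w with hx
  haveI := IsFractionRing.nontrivial (X.left.presheaf.stalk x) X.left.functionField
  obtain ⟨b, c, hc, hbc⟩ := IsFractionRing.div_surjective (A := X.left.presheaf.stalk x) h
  obtain ⟨U₁, hxU₁, b₀, rfl⟩ := X.left.presheaf.germ_exist b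
  obtain ⟨U₂, hxU₂, c₀, rfl⟩ := X.left.presheaf.germ_exist c
  let U := U₁ ⊓ U₂
  have hxU : x ∈ U := ⟨hxU₁, hxU₂⟩
  have hηU : genericPoint X.left ∈ U := (genericPoint_specializes x).mem_open U.isOpen hxU
  set b₁ := X.left.presheaf.map (homOfLE (inf_le_left : U ≤ U₁)).op b₀ with hb₁
  set c₁ := X.left.presheaf.map (homOfLE (inf_le_right : U ≤ U₂)).op c₀ with hc₁
  have hb : X.left.presheaf.germ U₁ x hxU₁ b₀ = X.left.presheaf.germ U x hxU b₁ :=
    (TopCat.Presheaf.germ_res_apply _ _ _ _ _).symm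
  have hc' : X.left.presheaf.germ U₂ x hxU₂ c₀ = X.left.presheaf.germ U x hxU c₁ :=
    (TopCat.Presheaf.germ_res_apply _ _ _ _ _).symm
  rw [hb, hc'] at hbc
  rw [hc'] at hc
  have halg : ∀ s : Γ(X.left, U), algebraMap (X.left.presheaf.stalk x) X.left.functionField
      (X.left.presheaf.germ U x hxU s) = X.left.presheaf.germ U _ hηU s := fun s =>
    TopCat.Presheaf.germ_stalkSpecializes_apply X.left.presheaf hxU (genericPoint_specializes x) s
  rw [halg, halg] at hbc
  -- equality on the common open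
  let O : (G ⊗ X).left.Opens := p ⁻¹ᵁ U ⊓ a.act.left ⁻¹ᵁ D
  have hwO : w ∈ O := ⟨hxU, hw⟩
  have key : p.appLE U O inf_le_left b₁ = p.appLE U O inf_le_left c₁ * a.act.left.appLE D O inf_le_right hs := by
    refine sections_eq (a := a) _ _ fun w' hw' hα hβ hm => ?_
    rw [map_mul, ← toMax_germ_le p w' hβ U hηU O inf_le_left hw',
      ← toMax_germ_le p w' hβ U hηU O inf_le_left hw', ← toMax_germ_le a.act.left w' hα D hD O inf_le_right hw',
      hhs, hh w' hm hα hβ, ← map_mul]
    congr 1
    have hc0 : X.left.presheaf.germ U _ hηU c₁ ≠ 0 := by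
      rw [← halg]
      exact (map_ne_zero_iff _ (IsFractionRing.injective _ _)).mpr (nonZeroDivisors.ne_zero hc)
    rw [← hbc, mul_div_cancel₀ _ hc0]
  -- descend to the local ring of `X`
  have hdvd : X.left.presheaf.germ U x hxU b₁ ∈ Ideal.span {X.left.presheaf.germ U x hxU c₁} := by
    letI := (p.stalkMap w).hom.toAlgebra
    haveI : Module.Flat (X.left.presheaf.stalk x) ((G ⊗ X).left.presheaf.stalk w) := Flat.stalkMap p w
    haveI : IsLocalHom (algebraMap (X.left.presheaf.stalk x) ((G ⊗ X).left.presheaf.stalk w)) :=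
      inferInstanceAs (IsLocalHom (p.stalkMap w).hom)
    haveI : Module.FaithfullyFlat (X.left.presheaf.stalk x) ((G ⊗ X).left.presheaf.stalk w) :=
      Module.FaithfullyFlat.of_flat_of_isLocalHom
    rw [← Ideal.comap_map_eq_self_of_faithfullyFlat (B := (G ⊗ X).left.presheaf.stalk w)
      (Ideal.span {X.left.presheaf.germ U x hxU c₁}), Ideal.mem_comap, Ideal.map_span, Set.image_singleton,
      Ideal.mem_span_singleton]
    have e : ∀ s : Γ(X.left, U), algebraMap (X.left.presheaf.stalk x) ((G ⊗ X).left.presheaf.stalk w)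
        (X.left.presheaf.germ U x hxU s) = (G ⊗ X).left.presheaf.germ O w hwO (p.appLE U O inf_le_left s) :=
      fun s => by
        show p.stalkMap w _ = _
        rw [Scheme.Hom.germ_stalkMap_apply, Scheme.Hom.appLE, CommRingCat.comp_apply,
          TopCat.Presheaf.germ_res_apply]
    rw [e, e, key, map_mul]
    exact Dvd.intro _ rfl
  obtain ⟨r, hr⟩ := Ideal.mem_span_singleton.mp hdvd
  obtain ⟨U₃, hxU₃, r₀, rfl⟩ := X.left.presheaf.germ_exist r
  refine ⟨U₃, (genericPoint_specializes x).mem_open U₃.isOpen hxU₃, r₀, hxU₃, ?_⟩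
  have hr' := congrArg (algebraMap (X.left.presheaf.stalk x) X.left.functionField) hr
  rw [halg, map_mul, halg] at hr'
  have hc0 : X.left.presheaf.germ U _ hηU c₁ ≠ 0 := by
    rw [← halg]
    exact (map_ne_zero_iff _ (IsFractionRing.injective _ _)).mpr (nonZeroDivisors.ne_zero hc)
  rw [← hbc, hr', mul_div_cancel_left₀ _ hc0]
  exact (TopCat.Presheaf.germ_stalkSpecializes_apply X.left.presheaf hxU₃ (genericPoint_specializes x) r₀).symm

/-- Invariant rational functions come from the quotient. -/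
theorem exists_of_isInvFun (hπ : GIT.IsGeomQuot a π) [Smooth G.hom] [IsIntegral X.left] [IrreducibleSpace Y.left]
    [AlgebraicGeometry.IsReduced (G ⊗ X).left] {h : X.left.functionField} (hh : IsInvFun a h)
    (hgen : π.left (genericPoint X.left) = genericPoint Y.left) :
    ∃ c : Y.left.functionField, toMax π.left (genericPoint X.left) hgen c = h := by
  haveI := smooth_snd (G := G) (X := X)
  haveI := smooth_act a
  haveI : UniversallyOpen G.hom := inferInstance
  haveI := GITQuot.universallyOpen hπ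
  obtain ⟨D, hD, hs, hhs⟩ := X.left.presheaf.germ_exist h
  let V : Y.left.Opens := ⟨π.left '' D, π.left.isOpenMap _ D.isOpen⟩
  let D' : X.left.Opens := π.left ⁻¹ᵁ V
  have hDD' : D ≤ D' := fun x hx => ⟨x, hx, rfl⟩
  have hloc : ∀ x : D', ∃ (U : X.left.Opens) (hU : genericPoint X.left ∈ U) (s : Γ(X.left, U)),
      (x : X.left) ∈ U ∧ X.left.presheaf.germ U _ hU s = h := by
    intro xx
    obtain ⟨x, hx⟩ := xx
    obtain ⟨d, hd, hdx⟩ := hx
    obtain ⟨z, hz₁, hz₂⟩ := Scheme.Pullback.exists_preimage_pullback (f := π.left) (g := π.left) d x hdx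
    obtain ⟨w, hw⟩ := hπ.orbit z
    have h1 : a.act.left w = d := by
      rw [← hz₁, ← hw, ← Scheme.Hom.comp_apply, GIT.PsiY, pullback.lift_fst]
    have h2 : (snd G X).left w = x := by
      rw [← hz₂, ← hw, ← Scheme.Hom.comp_apply, GIT.PsiY, pullback.lift_snd]
    obtain ⟨U, hU, s, hxU, hs'⟩ := exists_mem_stalk hh hD hs hhs w (h1.symm ▸ hd)
    exact ⟨U, hU, s, h2 ▸ hxU, hs'⟩
  choose U hU s hxU hs' using hloc
  let U' : D' → X.left.Opens := fun x => U x ⊓ D'
  have hηD' : genericPoint X.left ∈ D' := hDD' hD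
  have hcomp : TopCat.Presheaf.IsCompatible X.left.sheaf.1 U'
      (fun x => X.left.presheaf.map (homOfLE (inf_le_left : U' x ≤ U x)).op (s x)) := by
    intro i j
    have hη : genericPoint X.left ∈ U' i ⊓ U' j := ⟨⟨hU i, hηD'⟩, hU j, hηD'⟩
    apply germ_injective_of_isIntegral X.left (genericPoint X.left) hη
    show X.left.presheaf.germ (U' i ⊓ U' j) _ hη (X.left.presheaf.map _ (X.left.presheaf.map _ (s i))) =
      X.left.presheaf.germ (U' i ⊓ U' j) _ hη (X.left.presheaf.map _ (X.left.presheaf.map _ (s j)))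
    rw [TopCat.Presheaf.germ_res_apply, TopCat.Presheaf.germ_res_apply, TopCat.Presheaf.germ_res_apply,
      TopCat.Presheaf.germ_res_apply, hs', hs']
  obtain ⟨h', hh', -⟩ := X.left.sheaf.existsUnique_gluing' U' D' (fun x => homOfLE inf_le_right)
    (fun x hx => Opens.mem_iSup.mpr ⟨⟨x, hx⟩, hxU ⟨x, hx⟩, hx⟩) _ hcomp
  have hh'h : X.left.presheaf.germ D' _ hηD' h' = h := by
    let i : D' := ⟨genericPoint X.left, hηD'⟩
    have := congrArg (X.left.presheaf.germ (U' i) _ ⟨hU i, hηD'⟩) (hh' i)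
    erw [TopCat.Presheaf.germ_res_apply, TopCat.Presheaf.germ_res_apply] at this
    rw [hs'] at this
    exact this
  have hinv : GIT.IsInvSection a π V h' := by
    refine sections_eq (a := a) _ _ fun w hw hα hβ hm => ?_
    rw [← toMax_germ_le a.act.left w hα D' hηD' _ inf_le_left hw,
      ← toMax_germ_le (snd G X).left w hβ D' hηD' _ inf_le_right hw, hh'h]
    exact hh w hm hα hβ
  obtain ⟨u, hu⟩ : h' ∈ Set.range (π.left.app V) := by rw [(hπ.sections V).2]; exact hinv
  have hηV : genericPoint Y.left ∈ V := hgen ▸ hηD'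
  exact ⟨Y.left.presheaf.germ V _ hηV u, by rw [toMax_germ, hu, hh'h]⟩

end Groth.Agent.BddFinSmooth
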