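import Groth.Agent.GeomField.Frobenius
import Groth.Agent.GrpSchLib.Reduced
import Mathlib.FieldTheory.IsAlgClosed.AlgebraicClosure
import Mathlib.FieldTheory.Perfect
import Mathlib.LinearAlgebra.TensorProduct.Basis

/-!
# A field of invariants has separable overfield
-/

universe u

open TensorProduct

namespace Groth.Agent.BddFinSmooth

/-- Independence over `p`-th powers persists in a geometrically reduced algebra. -/
theorem pow_indep_transfer {N M : Type u} [Field N] [CommRing M] [Algebra N M]
    [Algebra.IsGeometricallyReduced N M] (p : ℕ) [Fact p.Prime] [CharP N p] {ι : Type*} (s : Finset ι) (c : ι → N)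
    (hc : ∀ d : ι → N, ∑ i ∈ s, c i * d i ^ p = 0 → ∀ i ∈ s, d i = 0)
    (m : ι → M) (hm : ∑ i ∈ s, algebraMap N M (c i) * m i ^ p = 0) : ∀ i ∈ s, m i = 0 := by
  classical
  rcases subsingleton_or_nontrivial M with hM | hM
  · exact fun i _ => Subsingleton.elim _ _
  let kb := AlgebraicClosure N
  haveI : CharP kb p := charP_of_injective_algebraMap (algebraMap N kb).injective p
  let r : ι → kb := fun i => (frobeniusEquiv kb p).symm (algebraMap N kb (c i))
  have hr : ∀ i, r i ^ p = algebraMap N kb (c i) := fun i => (frobeniusEquiv kb p).apply_symm_apply _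
  haveI : _root_.IsReduced (kb ⊗[N] M) := inferInstance
  haveI : CharP (kb ⊗[N] M) p :=
    charP_of_injective_ringHom (Algebra.TensorProduct.includeLeft_injective
      (S := N) (A := kb) (B := M) (algebraMap N M).injective) p
  let z : kb ⊗[N] M := ∑ i ∈ s, r i ⊗ₜ[N] m i
  have hz : z ^ p = 0 := by
    rw [sum_pow_char p]
    have : ∀ i, (r i ⊗ₜ[N] m i) ^ p = (1 : kb) ⊗ₜ[N] (algebraMap N M (c i) * m i ^ p) := fun i => by
      rw [Algebra.TensorProduct.tmul_pow, hr, Algebra.algebraMap_eq_smul_one, TensorProduct.smul_tmul,
        Algebra.smul_def]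
    rw [Finset.sum_congr rfl fun i _ => this i, ← TensorProduct.tmul_sum, hm, TensorProduct.tmul_zero]
  have hz0 : z = 0 := eq_zero_of_pow_eq_zero hz
  -- `r` is linearly independent, so the coefficients vanish
  let R : (s → N) →ₗ[N] kb := Fintype.linearCombination N fun i : s => r i
  have hR : Function.Injective R := by
    rw [injective_iff_map_eq_zero]
    intro d hd
    let d' : ι → N := fun i => if h : i ∈ s then d ⟨i, h⟩ else 0
    have h1 : ∑ i ∈ s, c i * d' i ^ p = 0 := by
      apply (algebraMap N kb).injective
      have h2 : (∑ i : s, d i • r i) ^ p = 0 := by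
        rw [show (∑ i : s, d i • r i) = R d from (Fintype.linearCombination_apply N (fun i : s => r i) d).symm, hd,
          zero_pow (Fact.out : p.Prime).ne_zero]
      rw [sum_pow_char p] at h2
      rw [map_zero, map_sum, ← h2, ← Finset.sum_coe_sort s]
      refine Finset.sum_congr rfl fun i _ => ?_
      rw [Algebra.smul_def, mul_pow, hr, map_mul, map_pow, mul_comm]
      simp [d', i.2]
    funext i
    have := hc d' h1 i i.2
    simpa [d', i.2] using this
  have hinj : Function.Injective (R.rTensor M) := Module.Flat.rTensor_preserves_injective_linearMap R hR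
  let y : (s → N) ⊗[N] M := ∑ i : s, (Pi.single i (1 : N)) ⊗ₜ[N] m i
  have hy : y = 0 := by
    apply hinj
    rw [map_zero, map_sum, ← hz0]
    show _ = z
    simp only [z, LinearMap.rTensor_tmul, R, Fintype.linearCombination_apply_single, one_smul]
    exact Finset.sum_coe_sort s fun i => r i ⊗ₜ[N] m i
  intro i hi
  have h := congrArg ((TensorProduct.lid N M).toLinearMap ∘ₗ
    TensorProduct.map (LinearMap.proj ⟨i, hi⟩ : (s → N) →ₗ[N] N) LinearMap.id) hy
  rw [map_sum, map_zero, Finset.sum_eq_single (⟨i, hi⟩ : s)] at h
  · simpa using h
  · intro j _ hj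
    simp [Pi.single_eq_of_ne (Ne.symm hj)]
  · simp

/-- A field extension `N/L` is geometrically reduced as soon as `L` is cut out inside `N` by pairs of maps into
geometrically reduced algebras. -/
theorem isGeometricallyReduced_of_equalizer {L N : Type u} [Field L] [Field N] [Algebra L N]
    {J : Type*} (M : J → Type u) [∀ j, CommRing (M j)] (α β : ∀ j, N →+* M j)
    (hαβ : ∀ j (x : L), α j (algebraMap L N x) = β j (algebraMap L N x))
    (hgr : ∀ j, @Algebra.IsGeometricallyReduced N (M j) _ _ (β j).toAlgebra)
    (hinv : ∀ h : N, (∀ j, α j h = β j h) → h ∈ Set.range (algebraMap L N)) :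
    Algebra.IsGeometricallyReduced L N := by
  classical
  obtain h0 | ⟨p, hp, hpk⟩ := CharP.exists' L
  · exact GrpSchLib.isGeometricallyReduced_of_isReduced (k := L) N
  haveI : CharP N p := charP_of_injective_algebraMap (algebraMap L N).injective p
  let b := Module.Free.chooseBasis L (GeomField.Twist L p)
  let c : Module.Free.ChooseBasisIndex L (GeomField.Twist L p) → L := fun i => GeomField.untw (b i)
  have hc : ∀ (s : Finset _) (d : _ → L), ∑ i ∈ s, c i * d i ^ p = 0 → ∀ i ∈ s, d i = 0 := by
    intro s d hd
    refine linearIndependent_iff'.mp b.linearIndependent s d ?_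
    refine Eq.trans ?_ hd
    refine Finset.sum_congr rfl fun i _ => ?_
    rw [Algebra.smul_def]
    exact mul_comm (d i ^ p) (c i)
  have key : ∀ (s : Finset _) (v : _ → N), ∑ i ∈ s, algebraMap L N (c i) * v i ^ p = 0 → ∀ i ∈ s, v i = 0 := by
    intro s
    induction s using Finset.induction with
    | empty => simp
    | insert a s has ih =>
      intro v hv
      rw [Finset.sum_insert has] at hv
      by_cases hva : v a = 0
      · rw [hva, zero_pow hp.out.ne_zero, mul_zero, zero_add] at hv
        intro i hi
        rcases Finset.mem_insert.mp hi with rfl | hi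
        · exact hva
        · exact ih v hv i hi
      · exfalso
        let v' : _ → N := fun i => v i / v a
        have hv' : algebraMap L N (c a) + ∑ i ∈ s, algebraMap L N (c i) * v' i ^ p = 0 := by
          have h1 : (algebraMap L N (c a) * v a ^ p + ∑ i ∈ s, algebraMap L N (c i) * v i ^ p) * (v a ^ p)⁻¹ = 0 := by
            rw [hv, zero_mul]
          rw [← h1, add_mul, Finset.sum_mul, mul_assoc, mul_inv_cancel₀ (pow_ne_zero _ hva), mul_one]
          refine congrArg _ (Finset.sum_congr rfl fun i _ => ?_)
          rw [div_pow, div_eq_mul_inv, mul_assoc]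
        have hrat : ∀ i ∈ s, v' i ∈ Set.range (algebraMap L N) := by
          intro i hi
          refine hinv _ fun j => ?_
          letI := (β j).toAlgebra
          haveI := hgr j
          rw [← sub_eq_zero]
          refine pow_indep_transfer p s (fun i => algebraMap L N (c i)) ih (fun i => α j (v' i) - β j (v' i)) ?_ i hi
          rcases subsingleton_or_nontrivial (M j) with hM | hM
          · exact Subsingleton.elim _ _
          haveI : CharP (M j) p := charP_of_injective_ringHom (f := β j) (β j).injective p
          have e1 := congrArg (α j) hv'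
          have e2 := congrArg (β j) hv'
          simp only [map_add, map_sum, map_mul, map_pow, map_zero, hαβ] at e1 e2
          have e3 := sub_eq_zero.mpr (e1.trans e2.symm)
          rw [add_sub_add_left_eq_sub, ← Finset.sum_sub_distrib] at e3
          rw [← e3]
          refine Finset.sum_congr rfl fun i _ => ?_
          rw [sub_pow_char, mul_sub]
          rfl
        choose! d hd using hrat
        have h1 : ∑ i ∈ insert a s, c i * (Function.update d a (1 : L)) i ^ p = 0 := by
          apply (algebraMap L N).injective
          rw [Finset.sum_insert has, map_zero, ← hv', map_add, map_sum]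
          congr 1
          · simp
          · refine Finset.sum_congr rfl fun i hi => ?_
            rw [Function.update_of_ne (fun h : i = a => has (h ▸ hi)), map_mul, map_pow, hd i hi]
        simpa using hc _ _ h1 a (Finset.mem_insert_self a s)
  haveI : _root_.IsReduced (N ⊗[L] GeomField.Twist L p) := by
    refine (isReduced_iff_pow_one_lt p hp.out.one_lt).2 fun y hy => ?_
    haveI : CharP (N ⊗[L] GeomField.Twist L p) p :=
      charP_of_injective_ringHom (f := (Algebra.TensorProduct.includeLeft : N →ₐ[L] N ⊗[L] GeomField.Twist L p).toRingHom)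
        (Algebra.TensorProduct.includeLeft_injective (algebraMap L (GeomField.Twist L p)).injective) p
    let bb := Algebra.TensorProduct.basis N b
    set v := bb.repr y with hv
    have hy' : y = ∑ i ∈ v.support, v i ⊗ₜ[L] b i := by
      conv_lhs => rw [← bb.linearCombination_repr y]
      rw [Finsupp.linearCombination_apply, Finsupp.sum]
      refine Finset.sum_congr rfl fun i _ => ?_
      rw [Algebra.TensorProduct.basis_apply, TensorProduct.smul_tmul', smul_eq_mul, mul_one]
    have hpow : y ^ p = (∑ i ∈ v.support, algebraMap L N (c i) * v i ^ p) ⊗ₜ[L] (1 : GeomField.Twist L p) := by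
      rw [hy', sum_pow_char p, TensorProduct.sum_tmul]
      refine Finset.sum_congr rfl fun i _ => ?_
      rw [Algebra.TensorProduct.tmul_pow,
        show (b i) ^ p = (c i) • (1 : GeomField.Twist L p) from
          (show (b i) ^ p = algebraMap L (GeomField.Twist L p) (c i) from rfl).trans (Algebra.algebraMap_eq_smul_one _),
        TensorProduct.tmul_smul, TensorProduct.smul_tmul', Algebra.smul_def]
    have h0 : ∑ i ∈ v.support, algebraMap L N (c i) * v i ^ p = 0 := by
      refine Algebra.TensorProduct.includeLeft_injective (S := L) (algebraMap L (GeomField.Twist L p)).injective ?_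
      rw [map_zero]
      exact hpow.symm.trans hy
    rw [hy']
    exact Finset.sum_eq_zero fun i hi => by rw [key _ _ h0 i hi, TensorProduct.zero_tmul]
  rw [GeomField.gr_iff]
  exact GeomField.isReduced_tensor_of_twist p N (AlgebraicClosure L)

end Groth.Agent.BddFinSmooth
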